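/-
A semisimple class of `SL₃(q)` whose square contains every non-central element.
-/
import Mathlib.LinearAlgebra.Matrix.SpecialLinearGroup
import Mathlib.LinearAlgebra.Matrix.GeneralLinearGroup.Defs
import Mathlib.LinearAlgebra.Matrix.NonsingularInverse
import Mathlib.LinearAlgebra.Matrix.Notation
import Mathlib.Tactic.LinearCombination
import Mathlib.Tactic.FinCases
import Mathlib.Tactic.FieldSimp
import Cfsg.Agent.Lib.GL2Classes

set_option autoImplicit false

namespace CfsgLib.SL3Square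

open Matrix

variable {F : Type*} [Field F]

local notation "M3" => Matrix (Fin 3) (Fin 3) F
local notation "SL3" => Matrix.SpecialLinearGroup (Fin 3) F

/-- `g` is a product of two conjugates of `x`. -/
def Good (x g : SL3) : Prop := ∃ u v : SL3, g = u * x * u⁻¹ * (v * x * v⁻¹)

theorem Good.conj {x g : SL3} (h : Good x g) (w : SL3) : Good x (w * g * w⁻¹) := by
  obtain ⟨u, v, rfl⟩ := h
  exact ⟨w * u, w * v, by group⟩

/-- A diagonal element. -/
def dg (a b c : F) (h : a * b * c = 1) : SL3 :=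
  ⟨!![a, 0, 0; 0, b, 0; 0, 0, c], by simp [Matrix.det_fin_three]; linear_combination h⟩

theorem conj_dg {a b c : F} (h : a * b * c = 1) {N P : M3} (hP : P.det ≠ 0)
    (e : N * P = P * (dg a b c h).1) : ∃ u : SL3, (u * dg a b c h * u⁻¹).1 = N := by
  set T : M3 := !![(P.det)⁻¹, 0, 0; 0, 1, 0; 0, 0, 1]
  have hT : T * (dg a b c h).1 = (dg a b c h).1 * T := by
    ext i j
    fin_cases i <;> fin_cases j <;> simp [T, dg, Matrix.mul_apply, Fin.sum_univ_three, mul_comm]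
  obtain ⟨u, hu⟩ : ∃ u : SL3, u.1 = P * T :=
    ⟨⟨P * T, by
      have hTd : ∀ t : F, (!![t, 0, 0; 0, 1, 0; 0, 0, 1] : M3).det = t := fun t => by
        simp [Matrix.det_fin_three]
      rw [Matrix.det_mul, hTd, mul_inv_cancel₀ hP]⟩, rfl⟩
  refine ⟨u, ?_⟩
  have hu' : N * u.1 = u.1 * (dg a b c h).1 := by
    rw [hu, ← Matrix.mul_assoc, e, Matrix.mul_assoc, ← hT, Matrix.mul_assoc]
  show u.1 * (dg a b c h).1 * (u⁻¹).1 = N
  have h1 : u.1 * (u⁻¹).1 = 1 := congrArg Subtype.val (mul_inv_cancel u)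
  rw [← hu', Matrix.mul_assoc, h1, Matrix.mul_one]

theorem lower_diag {a b c : F} (hab : a ≠ b) (hac : a ≠ c) (hbc : b ≠ c) (h : a * b * c = 1)
    (x y z : F) :
    ∃ E : M3, E.det = 1 ∧ !![a, 0, 0; x, b, 0; y, z, c] * E = E * (dg a b c h).1 := by
  have h1 := sub_ne_zero.mpr hab
  have h2 := sub_ne_zero.mpr hac
  have h3 := sub_ne_zero.mpr hbc
  refine ⟨!![1, 0, 0; x / (a - b), 1, 0; (y + z * (x / (a - b))) / (a - c), z / (b - c), 1], ?_, ?_⟩
  · simp [Matrix.det_fin_three]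
  · ext i j
    fin_cases i <;> fin_cases j <;> simp [dg, Matrix.mul_apply, Fin.sum_univ_three] <;> field_simp <;> ring

theorem upper_diag {a b c : F} (hab : a ≠ b) (hac : a ≠ c) (hbc : b ≠ c) (h : a * b * c = 1)
    (x y z : F) :
    ∃ E : M3, E.det = 1 ∧ !![a, x, y; 0, b, z; 0, 0, c] * E = E * (dg a b c h).1 := by
  have h1 := sub_ne_zero.mpr hab.symm
  have h2 := sub_ne_zero.mpr hac.symm
  have h3 := sub_ne_zero.mpr hbc.symm
  refine ⟨!![1, x / (b - a), (y + x * (z / (c - b))) / (c - a); 0, 1, z / (c - b); 0, 0, 1], ?_, ?_⟩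
  · simp [Matrix.det_fin_three]
  · ext i j
    fin_cases i <;> fin_cases j <;> simp [dg, Matrix.mul_apply, Fin.sum_univ_three] <;> field_simp <;> ring

/-- First column normal form. -/
theorem first_column (g : SL3) (hg : ∀ r : F, g.1 ≠ r • (1 : M3)) (D : F) :
    ∃ P G : M3, P.det ≠ 0 ∧ g.1 * P = P * G ∧ G 0 0 = D ∧ G 1 0 = 1 ∧ G 2 0 = 0 := by
  have hoff : ∃ T : M3, T.det ≠ 0 ∧ ∃ G' : M3, g.1 * T = T * G' ∧ ∃ i j, i ≠ j ∧ G' i j ≠ 0 := by
    by_cases h : ∃ i j, i ≠ j ∧ g.1 i j ≠ 0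
    · exact ⟨1, by simp, g.1, by simp, h⟩
    push Not at h
    have hd : g.1 0 0 ≠ g.1 1 1 ∨ g.1 0 0 ≠ g.1 2 2 := by
      by_contra hc
      push Not at hc
      refine hg (g.1 0 0) ?_
      ext i j
      fin_cases i <;> fin_cases j <;> simp [h, ← hc.1, ← hc.2]
    rcases hd with hd | hd
    · refine ⟨!![1, 1, 0; 0, 1, 0; 0, 0, 1], by simp [Matrix.det_fin_three],
        !![g.1 0 0, g.1 0 0 - g.1 1 1, 0; 0, g.1 1 1, 0; 0, 0, g.1 2 2], ?_, 0, 1, by decide, ?_⟩
      · ext i j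
        fin_cases i <;> fin_cases j <;> simp [Matrix.mul_apply, Fin.sum_univ_three, h]
      · simpa [sub_eq_zero] using hd
    · refine ⟨!![1, 0, 1; 0, 1, 0; 0, 0, 1], by simp [Matrix.det_fin_three],
        !![g.1 0 0, 0, g.1 0 0 - g.1 2 2; 0, g.1 1 1, 0; 0, 0, g.1 2 2], ?_, 0, 2, by decide, ?_⟩
      · ext i j
        fin_cases i <;> fin_cases j <;> simp [Matrix.mul_apply, Fin.sum_univ_three, h]
      · simpa [sub_eq_zero] using hd
  obtain ⟨T, hT, A, hA, i, j, hij, hne⟩ := hoff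
  have key : ∀ a b : Fin 3, a ≠ b → ∃ k : Fin 3, k ≠ a ∧ k ≠ b := by decide
  obtain ⟨k, hki, hkj⟩ := key i j hij
  set Q : M3 := Matrix.of fun r c =>
    if c = 0 then (if r = j then 1 else 0)
    else if c = 1 then A r j - (if r = j then D else 0) else (if r = k then 1 else 0) with hQ
  have hQd : Q.det ≠ 0 := by
    fin_cases i <;> fin_cases j <;> fin_cases k <;>
      simp [hQ, Matrix.det_fin_three] at * <;> assumption
  have hu : IsUnit Q.det := isUnit_iff_ne_zero.mpr hQd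
  refine ⟨T * Q, Q⁻¹ * (A * Q), by rw [det_mul]; exact mul_ne_zero hT hQd, ?_, ?_⟩
  · rw [← Matrix.mul_assoc g.1, hA, Matrix.mul_assoc T, Matrix.mul_assoc T,
      Matrix.mul_nonsing_inv_cancel_left _ _ hu]
  have hcol : ∀ l, (Q⁻¹ * (A * Q)) l 0 = if l = 0 then D else if l = 1 then 1 else 0 := by
    intro l
    have hv : (A * Q) *ᵥ Pi.single 0 1 = Q *ᵥ ![D, 1, 0] := by
      funext r
      rw [Matrix.mulVec_single_one]
      simp only [Matrix.col_apply, Matrix.mul_apply, Matrix.mulVec, dotProduct, Fin.sum_univ_three, hQ,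
        Matrix.of_apply]
      fin_cases j <;> fin_cases r <;> simp <;> ring
    have h2 : (Q⁻¹ * (A * Q)) *ᵥ Pi.single 0 1 = ![D, 1, 0] := by
      rw [← mulVec_mulVec, hv, mulVec_mulVec, Matrix.nonsing_inv_mul _ hu, one_mulVec]
    have h3 := congrFun h2 l
    rw [Matrix.mulVec_single_one, Matrix.col_apply] at h3
    rw [h3]
    fin_cases l <;> simp
  exact ⟨by rw [hcol, if_pos rfl], by rw [hcol]; simp, by rw [hcol]; simp⟩

/-- A non-central element with prescribed leading principal minors. -/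
theorem minors (g : SL3) (hg : ∀ r : F, g.1 ≠ r • (1 : M3)) (D : F) :
    ∃ P G : M3, P.det ≠ 0 ∧ g.1 * P = P * G ∧ G 0 0 = 1 ∧ G 1 1 - G 1 0 * G 0 1 = D := by
  obtain ⟨P, G, hP, hG, h0, h1, h2⟩ := first_column g hg 1
  have hdG : G.det = 1 := by
    have := congrArg Matrix.det hG
    rw [det_mul, det_mul, g.2, one_mul] at this
    exact (mul_eq_left₀ hP).mp this.symm
  obtain ⟨r2, r3, a, b, c, d, rfl⟩ : ∃ r2 r3 a b c d, G = !![1, r2, r3; 1, a, b; 0, c, d] :=
    ⟨G 0 1, G 0 2, G 1 1, G 1 2, G 2 1, G 2 2, by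
      ext i j
      fin_cases i <;> fin_cases j <;> simp [h0, h1, h2]⟩
  have hS : ∃ r3' b' : F, ∃ T : M3, T.det ≠ 0 ∧
      !![1, r2, r3; 1, a, b; 0, c, d] * T = T * !![1, r2, r3'; 1, a, b'; 0, c, d] ∧
      ∀ r : F, !![a - r2, b' - r3'; c, d] ≠ r • (1 : Matrix (Fin 2) (Fin 2) F) := by
    by_cases hs : ∀ r : F, !![a - r2, b - r3; c, d] ≠ r • (1 : Matrix (Fin 2) (Fin 2) F)
    · exact ⟨r3, b, 1, by simp, by simp, hs⟩
    push Not at hs
    obtain ⟨r, hr⟩ := hs
    have hc : c = 0 := by simpa using congrFun (congrFun hr 1) 0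
    have hb : b - r3 = 0 := by simpa using congrFun (congrFun hr 0) 1
    subst hc
    have hd : d ≠ 0 := fun e => by
      rw [e] at hdG
      simp [Matrix.det_fin_three] at hdG
    refine ⟨r3 + 1 - d, b + 1, !![1, 0, 1; 0, 1, 0; 0, 0, 1], by simp [Matrix.det_fin_three], ?_, ?_⟩
    · ext i j
      fin_cases i <;> fin_cases j <;> simp [Matrix.mul_apply, Fin.sum_univ_three] <;> ring
    · intro r' hr'
      have h01 := congrFun (congrFun hr' 0) 1
      simp at h01
      exact hd (by linear_combination h01 - hb)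
  obtain ⟨r3', b', T, hT, hTG, hns⟩ := hS
  obtain ⟨R, hR⟩ := GL2Classes.exists_conj_comp hns
  set S : Matrix (Fin 2) (Fin 2) F := !![a - r2, b' - r3'; c, d] with hSdef
  obtain ⟨W, hW⟩ : ∃ W : Matrix (Fin 2) (Fin 2) F, W = R.1 * !![1, -D; 0, 1] := ⟨_, rfl⟩
  have hWd : W.det ≠ 0 := by
    rw [hW, det_mul]; simpa [Matrix.det_fin_two_of] using
      ((Matrix.isUnit_iff_isUnit_det _).mp R.isUnit).ne_zero
  set S' : Matrix (Fin 2) (Fin 2) F := !![1, D; 0, 1] * GL2Classes.comp S.trace S.det * !![1, -D; 0, 1]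
    with hS'
  have hSW : S * W = W * S' := by
    rw [hW, hS', ← Matrix.mul_assoc, hR]
    simp only [Matrix.mul_assoc]
    congr 1
    rw [← Matrix.mul_assoc !![1, -D; 0, 1] !![1, D; 0, 1],
      show (!![1, -D; 0, 1] * !![1, D; 0, 1] : Matrix (Fin 2) (Fin 2) F) = 1 by simp [Matrix.one_fin_two],
      one_mul]
  have hD : S' 0 0 = D := by
    simp [hS', GL2Classes.comp, Matrix.mul_apply, Fin.sum_univ_two]
  set Q : M3 := !![1, 0, 0; 0, W 0 0, W 0 1; 0, W 1 0, W 1 1] with hQ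
  set W' : Matrix (Fin 2) (Fin 2) F := W⁻¹
  have hWW : W * W' = 1 := Matrix.mul_nonsing_inv _ (isUnit_iff_ne_zero.mpr hWd)
  have hWW' : W' * W = 1 := Matrix.nonsing_inv_mul _ (isUnit_iff_ne_zero.mpr hWd)
  set Q' : M3 := !![1, 0, 0; 0, W' 0 0, W' 0 1; 0, W' 1 0, W' 1 1] with hQ'
  have e00 := congrFun (congrFun hWW 0) 0
  have e01 := congrFun (congrFun hWW 0) 1
  have e10 := congrFun (congrFun hWW 1) 0
  have e11 := congrFun (congrFun hWW 1) 1
  simp [Matrix.mul_apply, Fin.sum_univ_two] at e00 e01 e10 e11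
  have hQQ : Q * Q' = 1 := by
    ext i j
    fin_cases i <;> fin_cases j <;> simp [hQ, hQ', Matrix.mul_apply, Fin.sum_univ_three, e00, e01, e10, e11, Matrix.one_apply]
  set G₁ : M3 := !![1, r2, r3'; 1, a, b'; 0, c, d] with hG₁
  refine ⟨P * T * Q, Q' * G₁ * Q, ?_, ?_, ?_, ?_⟩
  · rw [det_mul, det_mul]
    refine mul_ne_zero (mul_ne_zero hP hT) ?_
    have : Q.det = W.det := by simp [hQ, Matrix.det_fin_three, Matrix.det_fin_two]
    rw [this]; exact hWd
  · calc g.1 * (P * T * Q) = P * (!![1, r2, r3; 1, a, b; 0, c, d] * T) * Q := by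
          simp only [← Matrix.mul_assoc, hG]
      _ = P * T * (Q * Q') * G₁ * Q := by rw [hTG, hQQ, Matrix.mul_one, ← Matrix.mul_assoc P T]
      _ = _ := by simp only [Matrix.mul_assoc]
  · simp [hQ, hQ', hG₁, Matrix.mul_apply, Fin.sum_univ_three]
  · have hS00 : (W' * S * W) 0 0 = D := by
      rw [Matrix.mul_assoc, hSW, ← Matrix.mul_assoc, hWW', Matrix.one_mul, hD]
    rw [← hS00]
    simp [hQ, hQ', hG₁, hSdef, Matrix.mul_apply, Fin.sum_univ_three, Fin.sum_univ_two]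
    ring

theorem good_split (g : SL3) (hg : ∀ r : F, g.1 ≠ r • (1 : M3)) {z z' : F} (hz : 1 * z * z' = 1)
    (h1 : (1 : F) ≠ z) (h2 : (1 : F) ≠ z') (h3 : z ≠ z') : Good (dg 1 z z' hz) g := by
  have hz0 : z ≠ 0 := fun e => by simp [e] at hz
  have hz0' : z' ≠ 0 := fun e => by simp [e] at hz
  obtain ⟨P, G, hP, hG, h00, hD⟩ := minors g hg (z * z)
  have hdG : G.det = 1 := by
    have := congrArg Matrix.det hG
    rw [det_mul, det_mul, g.2, one_mul] at this
    exact (mul_eq_left₀ hP).mp this.symm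
  set U12 := (G 1 2 - G 1 0 * G 0 2) / z with hU12
  set L21 := (G 2 1 - G 2 0 * G 0 1) / z with hL21
  set L : M3 := !![1, 0, 0; G 1 0, z, 0; G 2 0, L21, z'] with hL
  set U : M3 := !![1, G 0 1, G 0 2; 0, z, U12; 0, 0, z'] with hU
  have hLU : G = L * U := by
    have hlast : G 2 2 = G 2 0 * G 0 2 + L21 * U12 + z' * z' := by
      have hzz : z * z' = 1 := by linear_combination hz
      have e : (z * z) * (G 2 2 - G 2 0 * G 0 2 - L21 * U12 - z' * z') = 0 := by
        have a1 : L21 * z = G 2 1 - G 2 0 * G 0 1 := div_mul_cancel₀ _ hz0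
        have a2 : U12 * z = G 1 2 - G 1 0 * G 0 2 := div_mul_cancel₀ _ hz0
        rw [Matrix.det_fin_three, h00] at hdG
        linear_combination hdG - (G 2 2 - G 2 0 * G 0 2) * hD - (z * U12) * a1 -
          (G 2 1 - G 2 0 * G 0 1) * a2 - (z * z' + 1) * hzz
      have := (mul_eq_zero.mp e).resolve_left (mul_ne_zero hz0 hz0)
      linear_combination this
    ext i j
    fin_cases i <;> fin_cases j <;>
      simp [hL, hU, Matrix.mul_apply, Fin.sum_univ_three, h00] <;>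
      first
        | (rw [hL21]; field_simp; ring; done)
        | (rw [hU12]; field_simp; ring; done)
        | linear_combination hD
        | linear_combination hlast
  obtain ⟨E, hE, hLE⟩ := lower_diag h1 h2 h3 hz (G 1 0) (G 2 0) L21
  obtain ⟨E', hE', hUE⟩ := upper_diag h1 h2 h3 hz (G 0 1) (G 0 2) U12
  have hu : IsUnit P.det := isUnit_iff_ne_zero.mpr hP
  obtain ⟨u, hu'⟩ := conj_dg hz (N := P * L * P⁻¹) (P := P * E)
    (by rw [det_mul, hE, mul_one]; exact hP)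
    (by rw [← Matrix.mul_assoc, Matrix.mul_assoc (P * L), Matrix.nonsing_inv_mul _ hu, Matrix.mul_one,
      Matrix.mul_assoc P L, hL, hLE, Matrix.mul_assoc])
  obtain ⟨v, hv'⟩ := conj_dg hz (N := P * U * P⁻¹) (P := P * E')
    (by rw [det_mul, hE', mul_one]; exact hP)
    (by rw [← Matrix.mul_assoc, Matrix.mul_assoc (P * U), Matrix.nonsing_inv_mul _ hu, Matrix.mul_one,
      Matrix.mul_assoc P U, hU, hUE, Matrix.mul_assoc])
  refine ⟨u, v, Subtype.ext ?_⟩
  show g.1 = (u * dg 1 z z' hz * u⁻¹).1 * (v * dg 1 z z' hz * v⁻¹).1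
  rw [hu', hv']
  calc g.1 = g.1 * (P * P⁻¹) := by rw [Matrix.mul_nonsing_inv _ hu, Matrix.mul_one]
    _ = P * (L * U) * P⁻¹ := by rw [← Matrix.mul_assoc, hG, hLU]
    _ = _ := by
      simp only [Matrix.mul_assoc]
      rw [← Matrix.mul_assoc P⁻¹ P, Matrix.nonsing_inv_mul _ hu, Matrix.one_mul]

end CfsgLib.SL3Square
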