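/-
A class of `SL₃(3)` of elements of order 13 whose square contains every non-central element.
-/
import Cfsg.Agent.Lib.SL3.ClassSquare
import Mathlib.Data.ZMod.Basic
import Mathlib.Algebra.Field.ZMod

set_option autoImplicit false

namespace CfsgLib.SL3Square.Three

open Matrix

local notation "M3" => Matrix (Fin 3) (Fin 3) (ZMod 3)
local notation "SL3" => Matrix.SpecialLinearGroup (Fin 3) (ZMod 3)

instance : Fact (Nat.Prime 3) := ⟨Nat.prime_three⟩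

/-- The representative. -/
def X₀ : SL3 := ⟨!![0, 0, 1; 1, 0, 1; 0, 1, 0], by rw [Matrix.det_fin_three]; decide⟩

theorem X₀_pow : X₀ ^ 13 = 1 := by
  apply Subtype.ext
  decide

theorem cert (g : SL3) {G : M3} (u u' v v' : M3) (hg : g.1 = G)
    (h : u * u' = 1 ∧ v * v' = 1 ∧
      u 0 0 * u 1 1 * u 2 2 - u 0 0 * u 1 2 * u 2 1 - u 0 1 * u 1 0 * u 2 2 + u 0 1 * u 1 2 * u 2 0 +
        u 0 2 * u 1 0 * u 2 1 - u 0 2 * u 1 1 * u 2 0 = 1 ∧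
      v 0 0 * v 1 1 * v 2 2 - v 0 0 * v 1 2 * v 2 1 - v 0 1 * v 1 0 * v 2 2 + v 0 1 * v 1 2 * v 2 0 +
        v 0 2 * v 1 0 * v 2 1 - v 0 2 * v 1 1 * v 2 0 = 1 ∧
      u * X₀.1 * u' * (v * X₀.1 * v') = G) : Good X₀ g := by
  obtain ⟨h1, h2, h3, h4, h5⟩ := h
  obtain ⟨U, hU⟩ : ∃ U : SL3, U.1 = u := ⟨⟨u, by rw [Matrix.det_fin_three]; exact h3⟩, rfl⟩
  obtain ⟨V, hV⟩ : ∃ V : SL3, V.1 = v := ⟨⟨v, by rw [Matrix.det_fin_three]; exact h4⟩, rfl⟩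
  have inv : ∀ (W : SL3) (w w' : M3), W.1 = w → w * w' = 1 → (W⁻¹).1 = w' := by
    intro W w w' hW hw
    have e : (W⁻¹).1 * W.1 = 1 := congrArg Subtype.val (inv_mul_cancel W)
    rw [hW] at e
    calc (W⁻¹).1 = (W⁻¹).1 * (w * w') := by rw [hw, mul_one]
      _ = w' := by rw [← mul_assoc, e, one_mul]
  refine ⟨U, V, Subtype.ext ?_⟩
  show g.1 = U.1 * X₀.1 * (U⁻¹).1 * (V.1 * X₀.1 * (V⁻¹).1)
  rw [inv U u u' hU h1, inv V v v' hV h2, hU, hV, h5, hg]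

theorem case1 (g : SL3) (hg : g.1 = !![0, 0, 1; 1, 0, 0; 0, 1, 0]) : Good X₀ g :=
  cert g !![0, 0, 1; 0, 1, 0; 2, 0, 2] !![2, 0, 2; 0, 1, 0; 1, 0, 0] !![0, 0, 2; 2, 1, 0; 1, 0, 0] !![0, 0, 1; 0, 1, 1; 2, 0, 0] hg (by decide)

theorem case2 (g : SL3) (hg : g.1 = !![0, 0, 1; 1, 0, 1; 0, 1, 0]) : Good X₀ g :=
  cert g !![0, 0, 1; 0, 2, 0; 1, 0, 2] !![1, 0, 1; 0, 2, 0; 1, 0, 0] !![0, 0, 2; 1, 1, 2; 2, 1, 1] !![2, 2, 1; 0, 2, 2; 2, 0, 0] hg (by decide)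

theorem case3 (g : SL3) (hg : g.1 = !![0, 0, 1; 1, 0, 2; 0, 1, 0]) : Good X₀ g :=
  cert g !![0, 0, 1; 0, 1, 0; 2, 2, 0] !![0, 2, 2; 0, 1, 0; 1, 0, 0] !![0, 0, 2; 1, 1, 0; 1, 0, 2] !![2, 0, 1; 1, 1, 2; 2, 0, 0] hg (by decide)

theorem case4 (g : SL3) (hg : g.1 = !![0, 0, 1; 1, 0, 0; 0, 1, 1]) : Good X₀ g :=
  cert g !![0, 0, 1; 0, 1, 0; 2, 0, 1] !![1, 0, 2; 0, 1, 0; 1, 0, 0] !![0, 0, 2; 0, 1, 0; 1, 0, 1] !![1, 0, 1; 0, 1, 0; 2, 0, 0] hg (by decide)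

theorem case5 (g : SL3) (hg : g.1 = !![0, 0, 1; 1, 0, 1; 0, 1, 1]) : Good X₀ g :=
  cert g !![0, 0, 1; 0, 1, 0; 2, 2, 2] !![2, 2, 2; 0, 1, 0; 1, 0, 0] !![0, 0, 2; 0, 1, 1; 1, 1, 1] !![0, 2, 1; 1, 1, 0; 2, 0, 0] hg (by decide)

theorem case6 (g : SL3) (hg : g.1 = !![0, 0, 1; 1, 0, 2; 0, 1, 1]) : Good X₀ g :=
  cert g !![0, 0, 1; 0, 1, 0; 2, 1, 2] !![2, 1, 2; 0, 1, 0; 1, 0, 0] !![0, 0, 2; 0, 1, 2; 1, 2, 1] !![0, 1, 1; 2, 1, 0; 2, 0, 0] hg (by decide)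

theorem case7 (g : SL3) (hg : g.1 = !![0, 0, 1; 1, 0, 0; 0, 1, 2]) : Good X₀ g :=
  cert g !![0, 0, 1; 0, 1, 0; 2, 1, 1] !![1, 1, 2; 0, 1, 0; 1, 0, 0] !![0, 0, 1; 2, 1, 1; 1, 1, 0] !![2, 1, 2; 1, 2, 2; 1, 0, 0] hg (by decide)

theorem case8 (g : SL3) (hg : g.1 = !![0, 0, 1; 1, 0, 1; 0, 1, 2]) : Good X₀ g :=
  cert g !![0, 0, 1; 0, 1, 0; 2, 0, 0] !![0, 0, 2; 0, 1, 0; 1, 0, 0] !![0, 0, 1; 1, 1, 2; 1, 2, 2] !![1, 2, 2; 0, 2, 1; 1, 0, 0] hg (by decide)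

theorem case9 (g : SL3) (hg : g.1 = !![0, 0, 1; 1, 0, 2; 0, 1, 2]) : Good X₀ g :=
  cert g !![0, 0, 1; 0, 1, 1; 2, 1, 1] !![0, 1, 2; 2, 1, 0; 1, 0, 0] !![0, 0, 2; 0, 1, 2; 1, 0, 1] !![1, 0, 1; 2, 1, 0; 2, 0, 0] hg (by decide)

theorem case10 (g : SL3) (hg : g.1 = !![0, 2, 0; 1, 0, 0; 0, 0, 1]) : Good X₀ g :=
  cert g !![0, 0, 1; 0, 1, 1; 2, 2, 1] !![2, 2, 2; 2, 1, 0; 1, 0, 0] !![0, 0, 1; 2, 1, 0; 2, 0, 2] !![2, 0, 2; 2, 1, 2; 1, 0, 0] hg (by decide)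

theorem case11 (g : SL3) (hg : g.1 = !![0, 2, 1; 1, 0, 0; 0, 0, 1]) : Good X₀ g :=
  cert g !![0, 0, 1; 0, 1, 1; 2, 2, 0] !![1, 2, 2; 2, 1, 0; 1, 0, 0] !![0, 0, 2; 0, 1, 1; 1, 0, 2] !![2, 0, 1; 1, 1, 0; 2, 0, 0] hg (by decide)

theorem case12 (g : SL3) (hg : g.1 = !![0, 2, 2; 1, 0, 0; 0, 0, 1]) : Good X₀ g :=
  cert g !![0, 0, 1; 0, 1, 1; 2, 0, 0] !![0, 0, 2; 2, 1, 0; 1, 0, 0] !![0, 0, 2; 2, 1, 0; 0, 1, 0] !![0, 2, 1; 0, 0, 1; 2, 0, 0] hg (by decide)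

theorem case13 (g : SL3) (hg : g.1 = !![0, 1, 0; 1, 0, 0; 0, 0, 2]) : Good X₀ g :=
  cert g !![0, 0, 1; 0, 2, 1; 1, 0, 0] !![0, 0, 1; 1, 2, 0; 1, 0, 0] !![0, 0, 1; 2, 1, 0; 0, 2, 0] !![0, 2, 2; 0, 0, 2; 1, 0, 0] hg (by decide)

theorem case14 (g : SL3) (hg : g.1 = !![0, 1, 1; 1, 0, 0; 0, 0, 2]) : Good X₀ g :=
  cert g !![0, 0, 1; 0, 1, 0; 2, 1, 2] !![2, 1, 2; 0, 1, 0; 1, 0, 0] !![0, 0, 2; 0, 1, 2; 1, 1, 2] !![0, 2, 1; 2, 1, 0; 2, 0, 0] hg (by decide)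

theorem case15 (g : SL3) (hg : g.1 = !![0, 1, 2; 1, 0, 0; 0, 0, 2]) : Good X₀ g :=
  cert g !![0, 0, 1; 0, 2, 0; 1, 0, 2] !![1, 0, 1; 0, 2, 0; 1, 0, 0] !![0, 0, 1; 1, 1, 2; 2, 0, 1] !![1, 0, 2; 0, 1, 1; 1, 0, 0] hg (by decide)

theorem case16 (g : SL3) (hg : g.1 = !![0, 2, 0; 1, 1, 0; 0, 0, 1]) : Good X₀ g :=
  cert g !![0, 0, 1; 0, 1, 1; 2, 2, 2] !![0, 2, 2; 2, 1, 0; 1, 0, 0] !![0, 0, 1; 2, 1, 0; 1, 1, 2] !![2, 1, 2; 2, 2, 2; 1, 0, 0] hg (by decide)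

theorem case17 (g : SL3) (hg : g.1 = !![0, 2, 1; 1, 1, 0; 0, 0, 1]) : Good X₀ g :=
  cert g !![0, 0, 1; 0, 1, 1; 2, 2, 1] !![2, 2, 2; 2, 1, 0; 1, 0, 0] !![0, 0, 2; 1, 2, 2; 0, 2, 2] !![0, 1, 2; 1, 0, 2; 2, 0, 0] hg (by decide)

theorem case18 (g : SL3) (hg : g.1 = !![0, 2, 2; 1, 1, 0; 0, 0, 1]) : Good X₀ g :=
  cert g !![0, 0, 1; 0, 1, 1; 2, 2, 0] !![1, 2, 2; 2, 1, 0; 1, 0, 0] !![0, 0, 2; 1, 0, 0; 2, 2, 2] !![0, 1, 0; 1, 2, 2; 2, 0, 0] hg (by decide)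

theorem case19 (g : SL3) (hg : g.1 = !![0, 1, 0; 1, 1, 0; 0, 0, 2]) : Good X₀ g :=
  cert g !![0, 0, 1; 0, 1, 1; 2, 1, 0] !![2, 1, 2; 2, 1, 0; 1, 0, 0] !![0, 0, 1; 1, 1, 2; 0, 1, 2] !![0, 1, 2; 1, 0, 1; 1, 0, 0] hg (by decide)

theorem case20 (g : SL3) (hg : g.1 = !![0, 1, 1; 1, 1, 0; 0, 0, 2]) : Good X₀ g :=
  cert g !![0, 0, 1; 0, 1, 1; 2, 1, 2] !![1, 1, 2; 2, 1, 0; 1, 0, 0] !![0, 0, 2; 2, 0, 0; 1, 1, 2] !![0, 2, 0; 2, 1, 1; 2, 0, 0] hg (by decide)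

theorem case21 (g : SL3) (hg : g.1 = !![0, 1, 2; 1, 1, 0; 0, 0, 2]) : Good X₀ g :=
  cert g !![0, 0, 1; 0, 1, 2; 2, 0, 0] !![0, 0, 2; 1, 1, 0; 1, 0, 0] !![0, 0, 1; 1, 1, 2; 0, 1, 0] !![1, 1, 2; 0, 0, 1; 1, 0, 0] hg (by decide)

theorem case22 (g : SL3) (hg : g.1 = !![0, 2, 0; 1, 2, 0; 0, 0, 1]) : Good X₀ g :=
  cert g !![0, 0, 1; 0, 1, 1; 2, 0, 2] !![2, 0, 2; 2, 1, 0; 1, 0, 0] !![0, 0, 1; 2, 1, 0; 2, 0, 0] !![0, 0, 2; 0, 1, 2; 1, 0, 0] hg (by decide)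

theorem case23 (g : SL3) (hg : g.1 = !![0, 2, 1; 1, 2, 0; 0, 0, 1]) : Good X₀ g :=
  cert g !![0, 0, 1; 0, 1, 0; 2, 2, 2] !![2, 2, 2; 0, 1, 0; 1, 0, 0] !![0, 0, 1; 1, 0, 1; 1, 1, 2] !![2, 1, 0; 2, 2, 1; 1, 0, 0] hg (by decide)

theorem case24 (g : SL3) (hg : g.1 = !![0, 2, 2; 1, 2, 0; 0, 0, 1]) : Good X₀ g :=
  cert g !![0, 0, 1; 0, 1, 2; 2, 1, 0] !![1, 1, 2; 1, 1, 0; 1, 0, 0] !![0, 0, 1; 1, 0, 1; 2, 1, 1] !![2, 1, 0; 1, 1, 1; 1, 0, 0] hg (by decide)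

theorem case25 (g : SL3) (hg : g.1 = !![0, 1, 0; 1, 2, 0; 0, 0, 2]) : Good X₀ g :=
  cert g !![0, 0, 1; 0, 1, 1; 2, 0, 2] !![2, 0, 2; 2, 1, 0; 1, 0, 0] !![0, 0, 1; 1, 1, 2; 1, 2, 2] !![1, 2, 2; 0, 2, 1; 1, 0, 0] hg (by decide)

theorem case26 (g : SL3) (hg : g.1 = !![0, 1, 1; 1, 2, 0; 0, 0, 2]) : Good X₀ g :=
  cert g !![0, 0, 1; 0, 1, 1; 2, 0, 0] !![0, 0, 2; 2, 1, 0; 1, 0, 0] !![0, 0, 2; 1, 1, 2; 0, 2, 0] !![2, 1, 1; 0, 0, 2; 2, 0, 0] hg (by decide)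

theorem case27 (g : SL3) (hg : g.1 = !![0, 1, 2; 1, 2, 0; 0, 0, 2]) : Good X₀ g :=
  cert g !![0, 0, 1; 1, 0, 0; 2, 1, 2] !![0, 1, 0; 1, 1, 1; 1, 0, 0] !![0, 0, 2; 0, 1, 2; 1, 1, 2] !![0, 2, 1; 2, 1, 0; 2, 0, 0] hg (by decide)

theorem good_of_conj {g : SL3} {P G : M3} (hP : P.det ≠ 0) (hG : g.1 * P = P * G)
    (h : ∀ k : SL3, k.1 = G → Good X₀ k) : Good X₀ g := by
  have key : ∀ x : ZMod 3, x ≠ 0 → ∃ e : ZMod 3, e ^ 3 * x = 1 := by decide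
  obtain ⟨e, he⟩ := key _ hP
  obtain ⟨w, hw⟩ : ∃ w : SL3, w.1 = e • P :=
    ⟨⟨e • P, by rw [Matrix.det_smul, Fintype.card_fin]; exact he⟩, rfl⟩
  have h1 := (h (w⁻¹ * g * w) (by
    show (w⁻¹).1 * g.1 * w.1 = G
    have e1 : (w⁻¹).1 * w.1 = 1 := congrArg Subtype.val (inv_mul_cancel w)
    rw [mul_assoc, hw, mul_smul_comm, hG, ← smul_mul_assoc, ← hw, ← mul_assoc, e1, one_mul])).conj w
  rwa [show w * (w⁻¹ * g * w) * w⁻¹ = g by group] at h1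

theorem companion_cases (g : SL3) (a b z : ZMod 3) (hg : g.1 = !![0, 0, z; 1, 0, b; 0, 1, a]) :
    Good X₀ g := by
  have hz := g.2
  rw [hg, Matrix.det_fin_three] at hz
  simp at hz
  subst hz
  have key : ∀ x : ZMod 3, x = 0 ∨ x = 1 ∨ x = 2 := by decide
  rcases key a with rfl | rfl | rfl <;> rcases key b with rfl | rfl | rfl
  · exact case1 g hg
  · exact case2 g hg
  · exact case3 g hg
  · exact case4 g hg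
  · exact case5 g hg
  · exact case6 g hg
  · exact case7 g hg
  · exact case8 g hg
  · exact case9 g hg

theorem block_cases (g : SL3) (a d r2 r : ZMod 3) (hg : g.1 = !![0, r2, r; 1, a, 0; 0, 0, d]) :
    Good X₀ g := by
  have hz := g.2
  rw [hg, Matrix.det_fin_three] at hz
  simp at hz
  have key : ∀ x : ZMod 3, x = 0 ∨ x = 1 ∨ x = 2 := by decide
  have key' : ∀ x y : ZMod 3, -(x * y) = 1 → (y = 1 ∧ x = 2) ∨ (y = 2 ∧ x = 1) := by decide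
  rcases key a with rfl | rfl | rfl <;> rcases key' r2 d hz with ⟨rfl, rfl⟩ | ⟨rfl, rfl⟩ <;>
    rcases key r with rfl | rfl | rfl
  · exact case10 g hg
  · exact case11 g hg
  · exact case12 g hg
  · exact case13 g hg
  · exact case14 g hg
  · exact case15 g hg
  · exact case16 g hg
  · exact case17 g hg
  · exact case18 g hg
  · exact case19 g hg
  · exact case20 g hg
  · exact case21 g hg
  · exact case22 g hg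
  · exact case23 g hg
  · exact case24 g hg
  · exact case25 g hg
  · exact case26 g hg
  · exact case27 g hg

/-- Every non-central element is a product of two conjugates of `X₀`. -/
theorem good (g : SL3) (hg : ∀ r : ZMod 3, g.1 ≠ r • (1 : M3)) : Good X₀ g := by
  obtain ⟨P, G, hP, hG, h0, h1, h2⟩ := first_column g hg 0
  refine good_of_conj hP hG fun k hk => ?_
  obtain ⟨r2, r3, a, b, c, d, rfl⟩ : ∃ r2 r3 a b c d, G = !![0, r2, r3; 1, a, b; 0, c, d] :=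
    ⟨G 0 1, G 0 2, G 1 1, G 1 2, G 2 1, G 2 2, by
      ext i j
      fin_cases i <;> fin_cases j <;> simp [h0, h1, h2]⟩
  by_cases hc : c = 0
  · subst hc
    refine good_of_conj (P := !![1, 0, -b; 0, 1, 0; 0, 0, 1])
      (G := !![0, r2, r3 + b * d; 1, a, 0; 0, 0, d]) (by simp [Matrix.det_fin_three]) ?_
      fun k' hk' => block_cases k' a d r2 _ hk'
    rw [hk]
    ext i j
    fin_cases i <;> fin_cases j <;> simp [Matrix.mul_apply, Fin.sum_univ_three] <;> ring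
  · refine good_of_conj (P := !![1, 0, r2; 0, 1, a; 0, 0, c])
      (G := !![0, 0, r3 * c - r2 * d; 1, 0, r2 + b * c - a * d; 0, 1, a + d])
      (by simpa [Matrix.det_fin_three] using hc) ?_
      fun k' hk' => companion_cases k' _ _ _ hk'
    rw [hk]
    ext i j
    fin_cases i <;> fin_cases j <;> simp [Matrix.mul_apply, Fin.sum_univ_three] <;> ring

end CfsgLib.SL3Square.Three
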